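import Groth.Agent.Lib.AmpleDesc12.Main
import Groth.Agent.Lib.RelAmple18.Ops
import Mathlib.AlgebraicGeometry.Limits
import Mathlib.AlgebraicGeometry.Cover.Open

/-!
# Relative ampleness descends along quasi-compact faithfully flat morphisms
-/

set_option autoImplicit false
set_option linter.style.haveILetI false
set_option backward.isDefEq.respectTransparency false

universe u

open CategoryTheory CategoryTheory.Limits AlgebraicGeometry TopologicalSpace

namespace Groth.Agent.AmpleDesc12

theorem isRelAmple_of_isRelAmple_baseChange {X S S' : Scheme.{u}} (f : X ⟶ S) (L : X.Modules)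
    (hL : PicF.IsInvertible L) (g : S' ⟶ S) [QuasiCompact g] [Flat g] [Surjective g]
    (h : RelAmple.IsRelAmple (pullback.snd f g) ((Scheme.Modules.pullback (pullback.fst f g)).obj L)) :
    RelAmple.IsRelAmple f L := by
  haveI := h.1
  haveI hqf : QuasiCompact f := by
    refine quasiCompact_iff_forall_isAffineOpen.2 fun V hV => ?_
    have hc : IsCompact ((pullback.snd f g ⁻¹ᵁ g ⁻¹ᵁ V : (pullback f g).Opens) : Set (pullback f g : Scheme.{u})) :=
      (pullback.snd f g).isCompact_preimage (g.isCompact_preimage hV.isCompact)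
    have he : (pullback.fst f g) '' ((pullback.snd f g ⁻¹ᵁ g ⁻¹ᵁ V : (pullback f g).Opens) : Set (pullback f g : Scheme.{u})) =
        ((f ⁻¹ᵁ V : X.Opens) : Set X) := by
      ext x
      constructor
      · rintro ⟨z, hz, rfl⟩
        show f (pullback.fst f g z) ∈ V
        rw [← Scheme.Hom.comp_apply, pullback.condition, Scheme.Hom.comp_apply]
        exact hz
      · intro hx
        obtain ⟨s', hs'⟩ := g.surjective (f x)
        obtain ⟨z, hz1, hz2⟩ := Scheme.Pullback.exists_preimage_pullback (f := f) (g := g) x s' hs'.symm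
        refine ⟨z, ?_, hz1⟩
        show g (pullback.snd f g z) ∈ V
        rw [hz2, hs']; exact hx
    rw [← he]
    exact hc.image (pullback.fst f g).continuous
  refine ⟨hqf, fun V => ?_⟩
  haveI : IsAffine (V.1 : Scheme.{u}) := V.2
  haveI : CompactSpace (g ⁻¹ᵁ V.1 : S'.Opens) :=
    isCompact_iff_compactSpace.1 (g.isCompact_preimage V.2.isCompact)
  let 𝒰 := (g ⁻¹ᵁ V.1).toScheme.affineCover.finiteSubcover
  let T : Scheme.{u} := ∐ fun j => 𝒰.X j
  let m₀ : T ⟶ (g ⁻¹ᵁ V.1).toScheme := Sigma.desc 𝒰.f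
  haveI := HasRingHomProperty.instIsZariskiLocalAtSource (P := @Flat.{u}) (Q := RingHom.Flat)
  haveI : Flat m₀ := IsZariskiLocalAtSource.sigmaDesc (P := @Flat.{u}) fun j => inferInstance
  haveI : Surjective m₀ := ⟨fun x => by
    obtain ⟨y, hy⟩ := 𝒰.covers x
    exact ⟨Sigma.ι (fun j => 𝒰.X j) _ y, by rw [← Scheme.Hom.comp_apply]; simpa [m₀] using hy⟩⟩
  let m : T ⟶ S' := m₀ ≫ (g ⁻¹ᵁ V.1).ι
  let q : T ⟶ (V.1 : Scheme.{u}) := m₀ ≫ (g ∣_ V.1)
  haveI : Flat (g ∣_ V.1) := IsZariskiLocalAtTarget.restrict (P := @Flat) inferInstance V.1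
  haveI : Surjective (g ∣_ V.1) := IsZariskiLocalAtTarget.restrict (P := @Surjective) inferInstance V.1
  haveI : Flat q := inferInstanceAs (Flat (m₀ ≫ (g ∣_ V.1)))
  haveI : Surjective q := inferInstanceAs (Surjective (m₀ ≫ (g ∣_ V.1)))
  let fV := f ∣_ V.1
  haveI : QuasiCompact fV := IsZariskiLocalAtTarget.restrict (P := @QuasiCompact) hqf V.1
  rw [RA.isAmple_restrict_iff_pullback]
  refine isAmple_of_isAmple_pullback fV q _ (PicLoc.isInvertible_pullback _ hL) ?_
  have hq : q ≫ V.1.ι = m ≫ g := by simp only [q, m, Category.assoc, morphismRestrict_ι]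
  have sq1 : IsPullback (pullback.fst fV q ≫ (f ⁻¹ᵁ V.1).ι) (pullback.snd fV q) f (m ≫ g) := by
    rw [← hq]
    exact (IsPullback.of_hasPullback fV q).paste_horiz (isPullback_morphismRestrict f V.1).flip
  let t : pullback fV q ⟶ pullback f g :=
    pullback.lift (pullback.fst fV q ≫ (f ⁻¹ᵁ V.1).ι) (pullback.snd fV q ≫ m) (sq1.w.trans (Category.assoc _ _ _).symm)
  have sq2 : IsPullback t (pullback.snd fV q) (pullback.snd f g) m := by
    refine IsPullback.of_right ?_ (pullback.lift_snd _ _ _) (IsPullback.of_hasPullback f g)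
    rw [pullback.lift_fst]
    exact sq1
  have h2 := RA.isRelAmple_of_isPullback sq2 h
  haveI : QuasiCompact (pullback.snd fV q) := MorphismProperty.pullback_snd _ _ inferInstance
  rw [RA.isRelAmple_iff_isAmple, RA.isAmple_pullback_comp_iff, RA.isAmple_pullback_congr (pullback.lift_fst _ _ _)] at h2
  rw [RA.isAmple_pullback_comp_iff]
  exact h2

end Groth.Agent.AmpleDesc12
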