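import Mathlib.RingTheory.Flat.Basic
import Mathlib.LinearAlgebra.TensorProduct.Pi
import Mathlib.LinearAlgebra.TensorProduct.Prod
import Mathlib.LinearAlgebra.TensorProduct.RightExactness
import Mathlib.RingTheory.Nilpotent.Lemmas
import Mathlib.RingTheory.Spectrum.Prime.Basic
import Mathlib.Algebra.Category.Ring.Constructions

/-!
# Families of elements killed by linear conditions, after flat base change
-/

set_option autoImplicit false
set_option linter.style.haveILetI false

universe u

open TensorProduct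

namespace Groth.Agent.AmpleDesc12

theorem bijective_of_isPushout {R A B P : CommRingCat.{u}} {f : R ⟶ A} {g : R ⟶ B} {a : A ⟶ P} {b : B ⟶ P}
    (H : CategoryTheory.IsPushout f g a b) :
    letI := f.hom.toAlgebra; letI := g.hom.toAlgebra
    ∃ e : (A : Type u) ⊗[(R : Type u)] (B : Type u) ≃+* (P : Type u), ∀ x y, e (x ⊗ₜ y) = a.hom x * b.hom y := by
  letI := f.hom.toAlgebra
  letI := g.hom.toAlgebra
  let i := (CommRingCat.isPushout_tensorProduct R A B).isoIsPushout A B H
  refine ⟨i.commRingCatIsoToRingEquiv, fun x y => ?_⟩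
  have hl : ∀ x : A, i.hom.hom (x ⊗ₜ 1) = a.hom x := fun x =>
    congr($((CommRingCat.isPushout_tensorProduct R A B).inl_isoIsPushout_hom A B H).hom x)
  have hr : ∀ y : B, i.hom.hom (1 ⊗ₜ y) = b.hom y := fun y =>
    congr($((CommRingCat.isPushout_tensorProduct R A B).inr_isoIsPushout_hom A B H).hom y)
  show i.hom.hom (x ⊗ₜ y) = _
  rw [← hl, ← hr, ← map_mul, Algebra.TensorProduct.tmul_mul_tmul, mul_one, one_mul]

variable {A A' : Type u} [CommRing A] [CommRing A'] [Algebra A A']

/-- A family satisfying the base changed conditions has a member of the original conditions which is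
nonzero at a given prime. -/
theorem exists_compat_notMem {ι : Type} {B B' : ι → Type u} {C C' : ι × ι → Type u}
    [Finite ι] [∀ i, CommRing (B i)] [∀ i, CommRing (B' i)] [∀ q, CommRing (C q)] [∀ q, CommRing (C' q)]
    [∀ i, Algebra A (B i)] [∀ q, Algebra A (C q)] [Module.Flat A A']
    (π : ∀ i, B i →+* B' i) (β : ∀ i, A' →+* B' i)
    (eB : ∀ i, A' ⊗[A] B i ≃+* B' i) (heB : ∀ i e x, eB i (e ⊗ₜ x) = β i e * π i x)
    (πC : ∀ q, C q →+* C' q) (βC : ∀ q, A' →+* C' q)
    (eC : ∀ q, A' ⊗[A] C q ≃+* C' q) (heC : ∀ q e x, eC q (e ⊗ₜ x) = βC q e * πC q x)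
    (r₁ : ∀ q : ι × ι, B q.1 →ₐ[A] C q) (r₂ : ∀ q : ι × ι, B q.2 →ₐ[A] C q) (g : ∀ q, C q)
    (r₁' : ∀ q : ι × ι, B' q.1 →+* C' q) (r₂' : ∀ q : ι × ι, B' q.2 →+* C' q)
    (h₁ : ∀ q x, r₁' q (π _ x) = πC q (r₁ q x)) (h₁' : ∀ q e, r₁' q (β _ e) = βC q e)
    (h₂ : ∀ q x, r₂' q (π _ x) = πC q (r₂ q x)) (h₂' : ∀ q e, r₂' q (β _ e) = βC q e)
    (I : ∀ i, Ideal (B i)) (v : ∀ i, B' i) (hv : ∀ q, r₁' q (v q.1) = πC q (g q) * r₂' q (v q.2))
    (hvI : ∀ i, v i ∈ (I i).map (π i)) (i₀ : ι) (P : Ideal (B' i₀)) (hP : v i₀ ∉ P) :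
    ∃ a : ∀ i, B i, (∀ q, r₁ q (a q.1) = g q * r₂ q (a q.2)) ∧ (∀ i, a i ∈ I i) ∧ π i₀ (a i₀) ∉ P := by
  classical
  haveI := Fintype.ofFinite ι
  let ψ : (∀ i, B i) →ₗ[A] (∀ q, C q) × (∀ i, B i ⧸ I i) :=
    (LinearMap.pi fun q => (r₁ q).toLinearMap ∘ₗ LinearMap.proj q.1 -
        (LinearMap.mulLeft A (g q)) ∘ₗ (r₂ q).toLinearMap ∘ₗ LinearMap.proj q.2).prod
      (LinearMap.pi fun i => (Ideal.Quotient.mkₐ A (I i)).toLinearMap ∘ₗ LinearMap.proj i)
  let E := TensorProduct.piRight A A A' B
  let t : A' ⊗[A] (∀ i, B i) := E.symm fun i => (eB i).symm (v i)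
  have hE : ∀ (s : A' ⊗[A] (∀ i, B i)) i, E s i = (LinearMap.proj i).lTensor A' s := fun s i => by
    induction s with
    | zero => simp
    | add x y hx hy => simp [map_add, hx, hy]
    | tmul e x => simp [E]
  have hEt : ∀ i, eB i (E t i) = v i := fun i => by simp [t]
  -- the first conditions
  have hC : ∀ q : ι × ι,
      ((r₁ q).toLinearMap ∘ₗ LinearMap.proj q.1 -
        (LinearMap.mulLeft A (g q)) ∘ₗ (r₂ q).toLinearMap ∘ₗ LinearMap.proj q.2).lTensor A' t = 0 := by
    intro q
    apply (eC q).injective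
    have key : ∀ s : A' ⊗[A] (∀ i, B i),
        eC q (((r₁ q).toLinearMap ∘ₗ LinearMap.proj q.1 -
          (LinearMap.mulLeft A (g q)) ∘ₗ (r₂ q).toLinearMap ∘ₗ LinearMap.proj q.2).lTensor A' s) =
        r₁' q (eB q.1 (E s q.1)) - πC q (g q) * r₂' q (eB q.2 (E s q.2)) := fun s => by
      induction s with
      | zero => simp
      | add x y hx hy => simp only [map_add, Pi.add_apply, hx, hy]; ring
      | tmul e x =>
        simp only [LinearMap.lTensor_tmul, LinearMap.sub_apply, LinearMap.comp_apply, LinearMap.proj_apply,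
          TensorProduct.tmul_sub, map_sub, AlgHom.toLinearMap_apply, LinearMap.mulLeft_apply, heC, map_mul, E,
          TensorProduct.piRight_apply, TensorProduct.piRightHom_tmul, heB, h₁, h₁', h₂, h₂']
        ring
    rw [key, hEt, hEt, hv, sub_self, map_zero]
  -- the vanishing conditions
  have hI : ∀ i, ((Ideal.Quotient.mkₐ A (I i)).toLinearMap ∘ₗ LinearMap.proj i).lTensor A' t = 0 := by
    intro i
    let T := LinearMap.range (((I i).restrictScalars A).subtype.lTensor A')
    have hmul : ∀ (s : A' ⊗[A] B i), s ∈ T → ∀ z : A' ⊗[A] B i, z * s ∈ T := by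
      rintro _ ⟨w, rfl⟩ z
      induction w with
      | zero => simp
      | add x y hx hy => rw [map_add, mul_add]; exact add_mem hx hy
      | tmul e x =>
        induction z with
        | zero => simp
        | add p q hp hq => rw [add_mul]; exact add_mem hp hq
        | tmul e' y =>
          exact ⟨(e' * e) ⊗ₜ ⟨y * x.1, (I i).mul_mem_left y x.2⟩, by simp⟩
    let J : Ideal (A' ⊗[A] B i) :=
      { carrier := T
        add_mem' := fun ha hb => T.add_mem ha hb
        zero_mem' := T.zero_mem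
        smul_mem' := fun z s hs => hmul s hs z }
    have hle : (I i).map (π i) ≤ J.map (eB i : A' ⊗[A] B i →+* B' i) := by
      rw [Ideal.map_le_iff_le_comap]
      intro x hx
      refine Ideal.mem_comap.2 ?_
      have hm : (1 : A') ⊗ₜ[A] x ∈ J := ⟨1 ⊗ₜ ⟨x, hx⟩, by simp⟩
      have := Ideal.mem_map_of_mem (eB i : A' ⊗[A] B i →+* B' i) hm
      simpa [heB] using this
    have hmem : E t i ∈ J := by
      obtain ⟨s, hs, hse⟩ := (Ideal.mem_map_iff_of_surjective _ (eB i).surjective).1 (hle (hvI i))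
      have : s = E t i := (eB i).injective (hse.trans (hEt i).symm)
      exact this ▸ hs
    obtain ⟨w, hw⟩ := hmem
    rw [LinearMap.lTensor_comp, LinearMap.comp_apply, ← hE, ← hw, ← LinearMap.comp_apply, ← LinearMap.lTensor_comp]
    rw [show (Ideal.Quotient.mkₐ A (I i)).toLinearMap ∘ₗ ((I i).restrictScalars A).subtype = 0 from
      LinearMap.ext fun x => Ideal.Quotient.eq_zero_iff_mem.2 x.2, LinearMap.lTensor_zero, LinearMap.zero_apply]
  have ht : ψ.lTensor A' t = 0 := by
    apply (TensorProduct.prodRight A A A' (∀ q, C q) (∀ i, B i ⧸ I i)).injective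
    rw [map_zero]
    refine Prod.ext ?_ ?_
    · apply (TensorProduct.piRight A A A' C).injective
      refine funext fun q => ?_
      rw [Prod.fst_zero, map_zero, Pi.zero_apply, ← hC q]
      clear hC hI hEt
      generalize t = s
      induction s with
      | zero => simp
      | add x y hx hy => simp only [map_add, Prod.fst_add, Pi.add_apply, hx, hy]
      | tmul e x => simp [ψ, TensorProduct.tmul_sub]
    · apply (TensorProduct.piRight A A A' fun i => B i ⧸ I i).injective
      refine funext fun i => ?_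
      rw [Prod.snd_zero, map_zero, Pi.zero_apply, ← hI i]
      clear hC hI hEt
      generalize t = s
      induction s with
      | zero => simp
      | add x y hx hy => simp only [map_add, Prod.snd_add, Pi.add_apply, hx, hy]
      | tmul e x => simp [ψ]
  have hex : Function.Exact (LinearMap.ker ψ).subtype ψ := LinearMap.exact_subtype_ker_map ψ
  obtain ⟨w, hw⟩ := ((Module.Flat.lTensor_exact A' hex) t).1 ht
  by_contra hcon
  push_neg at hcon
  apply hP
  rw [← hEt i₀, ← hw]
  clear hw
  induction w with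
  | zero => simp
  | add x y hx hy => simp only [map_add, Pi.add_apply]; exact add_mem hx hy
  | tmul e a =>
    have ha := a.2
    have ha1 : (ψ a.1).1 = 0 := by rw [LinearMap.mem_ker.1 ha]; rfl
    have ha2 : (ψ a.1).2 = 0 := by rw [LinearMap.mem_ker.1 ha]; rfl
    simp only [LinearMap.lTensor_tmul, Submodule.subtype_apply, E, TensorProduct.piRight_apply,
      TensorProduct.piRightHom_tmul, heB]
    refine P.mul_mem_left _ (hcon a.1 (fun q => sub_eq_zero.1 (congrFun ha1 q))
      (fun i => Ideal.Quotient.eq_zero_iff_mem.1 (congrFun ha2 i)))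

/-- An element of a base change vanishing at every prime over an ideal has a power in the extended ideal. -/
theorem exists_pow_mem_map {B B' : Type u} [CommRing B] [CommRing B'] (π : B →+* B') (I : Ideal B) (v : B')
    (h : ∀ p : Ideal B', p.IsPrime → I.map π ≤ p → v ∈ p) : ∃ n, v ^ n ∈ I.map π := by
  have : v ∈ (I.map π).radical := by
    rw [Ideal.radical_eq_sInf, Ideal.mem_sInf]
    exact fun {J} hJ => h J hJ.2 hJ.1
  exact this

end Groth.Agent.AmpleDesc12
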