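import Groth.Agent.Lib.AmpleDesc12.Alg
import Groth.Agent.Lib.CubeField.AmpleSec
import Groth.Agent.Lib.TensorMod.PullTensor
import Mathlib.AlgebraicGeometry.Morphisms.Flat
import Mathlib.AlgebraicGeometry.Morphisms.QuasiSeparated

/-!
# Ampleness descends along faithfully flat affine base change
-/

set_option autoImplicit false
set_option linter.style.haveILetI false
set_option backward.isDefEq.respectTransparency false

universe u

open CategoryTheory CategoryTheory.Limits AlgebraicGeometry TopologicalSpace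

namespace Groth.Agent.AmpleDesc12

open CubeField

theorem mem_basicOpen_iff {X : Scheme.{u}} {U : X.Opens} (hU : IsAffineOpen U) (a : Γ(X, U))
    (q : PrimeSpectrum Γ(X, U)) : hU.fromSpec q ∈ X.basicOpen a ↔ a ∉ q.asIdeal := by
  show q ∈ hU.fromSpec ⁻¹ᵁ X.basicOpen a ↔ _
  rw [hU.fromSpec_preimage_basicOpen]
  rfl

theorem quasiSeparatedSpace_of_surjective {X X' : Scheme.{u}} (p : X' ⟶ X) [Surjective p] [QuasiCompact p]
    [QuasiSeparatedSpace X'] : QuasiSeparatedSpace X := by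
  refine ⟨fun U V hU hUc hV hVc => ?_⟩
  have h := (QuasiSeparatedSpace.inter_isCompact (α := X') (p ⁻¹' U) (p ⁻¹' V)
    (hU.preimage p.continuous) (p.isCompact_preimage (U := ⟨U, hU⟩) hUc)
    (hV.preimage p.continuous) (p.isCompact_preimage (U := ⟨V, hV⟩) hVc)).image p.continuous
  rwa [← Set.preimage_inter, Set.image_preimage_eq _ p.surjective] at h

variable {X Y Y' : Scheme.{u}} [IsAffine Y] [IsAffine Y'] (f : X ⟶ Y) (g : Y' ⟶ Y) [Flat g]

theorem isPushout_sections [QuasiSeparatedSpace X] {U : X.Opens} (hU : IsCompact (U : Set X)) :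
    IsPushout (g.appLE ⊤ ⊤ le_top) (f.appLE ⊤ U le_top)
      ((pullback.snd f g).appLE ⊤ (pullback.fst f g ⁻¹ᵁ U) le_top)
      ((pullback.fst f g).appLE U (pullback.fst f g ⁻¹ᵁ U) le_rfl) := by
  have H := IsPullback.of_hasPullback f g
  have hqs : IsQuasiSeparated (U : Set X) := IsQuasiSeparated.of_quasiSeparatedSpace _
  have hiso := isIso_pushoutSection_of_isQuasiSeparated_of_flat_right H (US := ⊤) (UT := ⊤) (UX := U)
    (UY := pullback.fst f g ⁻¹ᵁ U) le_top le_top (by simp) (isAffineOpen_top Y) (isAffineOpen_top Y') hU hqs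
  exact ((isIso_pushoutSection_iff H (US := ⊤) (UT := ⊤) (UX := U) (UY := pullback.fst f g ⁻¹ᵁ U)
    le_top le_top (by simp)).1 hiso).flip

set_option maxHeartbeats 1000000 in
theorem isAmple_of_isAmple_pullback [QuasiCompact f] [Surjective g] (L : X.Modules) (hL : PicF.IsInvertible L)
    (h : CohB1.IsAmple ((Scheme.Modules.pullback (pullback.fst f g)).obj L)) : CohB1.IsAmple L := by
  let p := pullback.fst f g
  let b := pullback.snd f g
  haveI : IsAffineHom g := isAffineHom_of_isAffine g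
  haveI : IsAffineHom p := MorphismProperty.pullback_fst _ _ inferInstance
  haveI : Surjective p := MorphismProperty.pullback_fst _ _ inferInstance
  haveI : CompactSpace X := QuasiCompact.compactSpace_of_compactSpace f
  haveI := Amp.quasiSeparatedSpace_of_isAmple h
  haveI : QuasiSeparatedSpace X := quasiSeparatedSpace_of_surjective p
  obtain ⟨r, c, hV, hcov, ⟨T⟩⟩ := exists_triv L hL
  refine Amp.isAmple_of_basis hL fun x V hxV => ?_
  obtain ⟨x', rfl⟩ := p.surjective x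
  obtain ⟨n, G, ⟨s, hs⟩, hxG, hGV, -⟩ := Amp.exists_hasSec_le h (x := x') (V := p ⁻¹ᵁ V) hxV
  have hLP := h.1
  obtain ⟨v, hv, hvg⟩ := ((T.pull p).pow hLP (n + 1)).exists_coords (M2.isInvertible_tensorPow hLP _) s
  let I : ∀ i, Ideal Γ(X, c.V i) := fun i =>
    PrimeSpectrum.vanishingIdeal ((hV i).fromSpec ⁻¹' (V : Set X)ᶜ)
  have hI : ∀ i (a : Γ(X, c.V i)), a ∈ I i ↔ X.basicOpen a ≤ V := by
    intro i a
    rw [PrimeSpectrum.mem_vanishingIdeal]
    refine ⟨fun ha z hz => ?_, fun ha q hq => ?_⟩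
    · by_contra hn
      obtain ⟨q, rfl⟩ := (hV i).range_fromSpec.ge (X.basicOpen_le a hz)
      exact (mem_basicOpen_iff (hV i) a q).1 hz (ha q hn)
    · by_contra hn
      exact hq (ha ((mem_basicOpen_iff (hV i) a q).2 hn))
  have hk : ∀ i, ∃ k, (v i) ^ k ∈ (I i).map (p.appLE (c.V i) (p ⁻¹ᵁ c.V i) le_rfl).hom := by
    intro i
    refine exists_pow_mem_map _ _ (v i) fun P hP hle => ?_
    by_contra hn
    have hA : IsAffineOpen (p ⁻¹ᵁ c.V i) := (hV i).preimage p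
    let q : PrimeSpectrum Γ(pullback f g, p ⁻¹ᵁ c.V i) := ⟨P, hP⟩
    have hz : hA.fromSpec q ∈ pullback.fst f g ⁻¹ᵁ c.V i := hA.range_fromSpec.le ⟨q, rfl⟩
    have hG : hA.fromSpec q ∈ G := by
      rw [← hs]
      have := ((mem_basicOpen_iff hA (v i) q).2 hn)
      exact ((hvg i).ge this).1
    obtain ⟨a, ha, hza⟩ := (hV i).exists_basicOpen_le (V := V) ⟨p (hA.fromSpec q), hGV hG⟩ hz
    have h1 : p.appLE (c.V i) (p ⁻¹ᵁ c.V i) le_rfl a ∉ P := (mem_basicOpen_iff hA _ q).1 (by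
      rw [← Scheme.Hom.app_eq_appLE, ← Scheme.preimage_basicOpen]
      exact hza)
    exact h1 (hle (Ideal.mem_map_of_mem _ ((hI i a).2 ha)))
  choose k hk using hk
  let K := Finset.univ.sup k + 1
  have hKI : ∀ i, v i ^ K ∈ (I i).map (p.appLE (c.V i) (p ⁻¹ᵁ c.V i) le_rfl).hom := fun i =>
    Ideal.pow_mem_of_pow_mem _ (hk i) ((Finset.le_sup (Finset.mem_univ i)).trans (Nat.le_succ _))
  let A := Γ(Y, ⊤)
  let A' := Γ(Y', ⊤)
  letI : Algebra A A' := (g.appLE ⊤ ⊤ le_top).hom.toAlgebra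
  haveI : Module.Flat A A' := g.flat_appLE (isAffineOpen_top Y) (isAffineOpen_top Y') le_top
  letI : ∀ i, Algebra A Γ(X, c.V i) := fun i => (f.appLE ⊤ (c.V i) le_top).hom.toAlgebra
  letI : ∀ q : Fin r × Fin r, Algebra A Γ(X, c.V q.1 ⊓ c.V q.2) := fun q =>
    (f.appLE ⊤ (c.V q.1 ⊓ c.V q.2) le_top).hom.toAlgebra
  choose eB heB using fun i => bijective_of_isPushout (isPushout_sections f g (hV i).isCompact)
  choose eC heC using fun q : Fin r × Fin r => bijective_of_isPushout (isPushout_sections f g (U := c.V q.1 ⊓ c.V q.2)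
    (QuasiSeparatedSpace.inter_isCompact _ _ (c.V q.1).2 (hV q.1).isCompact (c.V q.2).2 (hV q.2).isCompact))
  let r₁ : ∀ q : Fin r × Fin r, Γ(X, c.V q.1) →ₐ[A] Γ(X, c.V q.1 ⊓ c.V q.2) := fun q =>
    { toRingHom := rs (inf_le_left : c.V q.1 ⊓ c.V q.2 ≤ c.V q.1)
      commutes' := fun a => RingHom.congr_fun (congrArg CommRingCat.Hom.hom
        (f.appLE_map (U := ⊤) (V := c.V q.1) le_top (homOfLE inf_le_left).op)) a }
  let r₂ : ∀ q : Fin r × Fin r, Γ(X, c.V q.2) →ₐ[A] Γ(X, c.V q.1 ⊓ c.V q.2) := fun q =>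
    { toRingHom := rs (inf_le_right : c.V q.1 ⊓ c.V q.2 ≤ c.V q.2)
      commutes' := fun a => RingHom.congr_fun (congrArg CommRingCat.Hom.hom
        (f.appLE_map (U := ⊤) (V := c.V q.2) le_top (homOfLE inf_le_right).op)) a }
  let m := (n + 1) * K - 1
  have hm : m + 1 = (n + 1) * K := Nat.sub_add_cancel (Nat.mul_pos n.succ_pos (Nat.succ_pos _))
  obtain ⟨i₀, hi₀⟩ := Opens.mem_iSup.1 (hcov.ge (Opens.mem_top (p x')))
  have hA0 : IsAffineOpen (p ⁻¹ᵁ c.V i₀) := (hV i₀).preimage p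
  obtain ⟨q₀, hq₀⟩ := hA0.range_fromSpec.ge (hi₀ : x' ∈ p ⁻¹ᵁ c.V i₀)
  have hv0 : v i₀ ^ K ∉ q₀.asIdeal := by
    refine fun hh => (mem_basicOpen_iff hA0 (v i₀) q₀).1 ((hvg i₀).le ⟨?_, ?_⟩) (q₀.isPrime.mem_of_pow_mem K hh)
    · rw [hq₀, hs]; exact hxG
    · rw [hq₀]; exact hi₀
  obtain ⟨a, hac, haI, ha0⟩ := exists_compat_notMem (A := A) (A' := A')
    (B := fun i => Γ(X, c.V i)) (B' := fun i => Γ(pullback f g, p ⁻¹ᵁ c.V i))
    (C := fun q : Fin r × Fin r => Γ(X, c.V q.1 ⊓ c.V q.2))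
    (C' := fun q : Fin r × Fin r => Γ(pullback f g, p ⁻¹ᵁ (c.V q.1 ⊓ c.V q.2)))
    (fun i => (p.appLE (c.V i) (p ⁻¹ᵁ c.V i) le_rfl).hom)
    (fun i => (b.appLE ⊤ (p ⁻¹ᵁ c.V i) le_top).hom) eB heB
    (fun q => (p.appLE (c.V q.1 ⊓ c.V q.2) (p ⁻¹ᵁ (c.V q.1 ⊓ c.V q.2)) le_rfl).hom)
    (fun q => (b.appLE ⊤ (p ⁻¹ᵁ (c.V q.1 ⊓ c.V q.2)) le_top).hom) eC heC
    r₁ r₂ (fun q => c.g q.1 q.2 ^ (m + 1))
    (fun q => rs (p.preimage_mono (inf_le_left : c.V q.1 ⊓ c.V q.2 ≤ c.V q.1)))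
    (fun q => rs (p.preimage_mono (inf_le_right : c.V q.1 ⊓ c.V q.2 ≤ c.V q.2)))
    (fun q x => by
      show rs _ ((p.appLE _ _ _).hom x) = (p.appLE _ _ _).hom (rs _ x)
      rw [← Scheme.Hom.app_eq_appLE, ← Scheme.Hom.app_eq_appLE]
      exact (app_rs p _ x).symm)
    (fun q e => RingHom.congr_fun (congrArg CommRingCat.Hom.hom
      (b.appLE_map (U := ⊤) (V := p ⁻¹ᵁ c.V q.1) le_top (homOfLE (p.preimage_mono inf_le_left)).op)) e)
    (fun q x => by
      show rs _ ((p.appLE _ _ _).hom x) = (p.appLE _ _ _).hom (rs _ x)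
      rw [← Scheme.Hom.app_eq_appLE, ← Scheme.Hom.app_eq_appLE]
      exact (app_rs p _ x).symm)
    (fun q e => RingHom.congr_fun (congrArg CommRingCat.Hom.hom
      (b.appLE_map (U := ⊤) (V := p ⁻¹ᵁ c.V q.2) le_top (homOfLE (p.preimage_mono inf_le_right)).op)) e)
    I (fun i => v i ^ K)
    (fun q => by
      show rs _ (v q.1 ^ K) = (p.appLE _ _ _).hom (c.g q.1 q.2 ^ (m + 1)) * rs _ (v q.2 ^ K)
      rw [← Scheme.Hom.app_eq_appLE, map_pow, map_pow, map_pow, hm, pow_mul, ← mul_pow]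
      exact congrArg (· ^ K) (hv q.1 q.2))
    hKI i₀ q₀.asIdeal hv0
  obtain ⟨s', hs'⟩ := (T.pow hL (m + 1)).exists_hom (M2.isInvertible_tensorPow hL _) hcov
    (v := a) (fun i j => hac (i, j))
  refine ⟨m, CohB1.genLocus _ s', ⟨s', rfl⟩, ?_, fun z hz => ?_⟩
  · have h1 : x' ∈ p ⁻¹ᵁ X.basicOpen (a i₀) := by
      rw [Scheme.preimage_basicOpen, ← hq₀, Scheme.Hom.app_eq_appLE]
      exact (mem_basicOpen_iff hA0 _ q₀).2 ha0
    exact ((hs' i₀).ge h1).1
  · obtain ⟨i, hi⟩ := Opens.mem_iSup.1 (hcov.ge (Opens.mem_top z))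
    exact (hI i (a i)).1 (haI i) ((hs' i).le ⟨hz, hi⟩)

end Groth.Agent.AmpleDesc12
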